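import Mathlib

/-!
S1903, part D (author: helper5): two groups `G = T ⋊ ⟨y⟩`, `C = V ⋊ ⟨h⟩` of order `|T| · n` with an
isomorphism `T ≃* V` intertwining conjugation by `y` and by `h` are isomorphic (graph of the
correspondence inside `G × C`).
-/

set_option autoImplicit false

namespace Cfsg.Agent.Lib.Helper5.U34C

open Subgroup
open scoped Pointwise

/-- adjoining an element `q` of order dividing `n` that normalises `H` multiplies the order by at
most `n` -/
theorem card_sup_zpowers_le_mul {X : Type*} [Group X] (H : Subgroup X) [Finite H] (q : X) (n : ℕ)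
    (hn : 0 < n) (hq : ∀ x ∈ H, q * x * q⁻¹ ∈ H) (hqn : q ^ n = 1) :
    Finite ↥(H ⊔ zpowers q) ∧ Nat.card ↥(H ⊔ zpowers q) ≤ Nat.card H * n := by
  have hqN : q ∈ normalizer (H : Set X) := mem_normalizer_fintype hq
  have hle : zpowers q ≤ normalizer (H : Set X) := zpowers_le.2 hqN
  have hset : ((H ⊔ zpowers q : Subgroup X) : Set X) = (H : Set X) * (zpowers q : Set X) :=
    coe_mul_of_right_le_normalizer_left H (zpowers q) hle
  have hord : orderOf q ∣ n := orderOf_dvd_of_pow_eq_one hqn
  have hord0 : 0 < orderOf q := Nat.pos_of_dvd_of_pos hord hn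
  have hcardz : Nat.card (zpowers q) = orderOf q := Nat.card_zpowers q
  haveI : Finite (zpowers q) := Nat.finite_of_card_ne_zero (by rw [hcardz]; omega)
  have hfin : ((H : Set X) * (zpowers q : Set X)).Finite :=
    Set.Finite.mul (Set.toFinite _) (Set.toFinite _)
  have hfin' : ((H ⊔ zpowers q : Subgroup X) : Set X).Finite := by rw [hset]; exact hfin
  refine ⟨hfin'.to_subtype, ?_⟩
  have e1 : Nat.card ↥(H ⊔ zpowers q) = Nat.card ↥((H : Set X) * (zpowers q : Set X)) := by
    apply Nat.card_congr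
    exact Equiv.setCongr hset
  rw [e1]
  calc Nat.card ↥((H : Set X) * (zpowers q : Set X))
      ≤ Nat.card ↥(H : Set X) * Nat.card ↥(zpowers q : Set X) := Set.natCard_mul_le
    _ = Nat.card H * orderOf q := by rw [← hcardz]; rfl
    _ ≤ Nat.card H * n := Nat.mul_le_mul_left _ (Nat.le_of_dvd hn hord)

/-- the assembly lemma -/
theorem assemble_gen {G C : Type*} [Group G] [Group C] [Finite G] [Finite C]
    (T : Subgroup G) [T.Normal] (V : Subgroup C) [V.Normal] (y : G) (h : C) (n : ℕ) (hn : 0 < n)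
    (hy : y ^ n = 1) (hh : h ^ n = 1)
    (hGle : Nat.card T * n ≤ Nat.card G) (hGC : Nat.card G = Nat.card C)
    (hTy : T ⊔ zpowers y = ⊤) (hVh : V ⊔ zpowers h = ⊤)
    (Φ : T ≃* V) (hΦ : ∀ x, Φ (MulAut.conjNormal y x) = MulAut.conjNormal h (Φ x)) :
    Nonempty (G ≃* C) := by
  -- the graph of Φ
  let γ : T →* G × C := MonoidHom.prod T.subtype (V.subtype.comp Φ.toMonoidHom)
  let H : Subgroup (G × C) := γ.range
  haveI : Finite H := inferInstance
  have hHcard : Nat.card H ≤ Nat.card T :=
    Nat.card_le_card_of_surjective γ.rangeRestrict γ.rangeRestrict_surjective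
  let q : G × C := (y, h)
  have hqn : q ^ n = 1 := Prod.ext (by simpa using hy) (by simpa using hh)
  have hq : ∀ x ∈ H, q * x * q⁻¹ ∈ H := by
    rintro x ⟨x₀, rfl⟩
    refine ⟨MulAut.conjNormal y x₀, ?_⟩
    apply Prod.ext
    · show ((MulAut.conjNormal y x₀ : T) : G) = y * (x₀ : G) * y⁻¹
      rw [MulAut.conjNormal_apply]
    · show ((Φ (MulAut.conjNormal y x₀) : V) : C) = h * ((Φ x₀ : V) : C) * h⁻¹
      rw [hΦ, MulAut.conjNormal_apply]
  obtain ⟨hfin, hcard⟩ := card_sup_zpowers_le_mul H q n hn hq hqn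
  set P : Subgroup (G × C) := H ⊔ zpowers q with hP
  haveI := hfin
  have hPle : Nat.card P ≤ Nat.card G :=
    hcard.trans ((Nat.mul_le_mul_right _ hHcard).trans hGle)
  let π₁ : P →* G := (MonoidHom.fst G C).comp P.subtype
  let π₂ : P →* C := (MonoidHom.snd G C).comp P.subtype
  have hπ₁ : Function.Surjective π₁ := by
    rw [← MonoidHom.range_eq_top, MonoidHom.range_comp, Subgroup.range_subtype, hP,
      Subgroup.map_sup, MonoidHom.map_range, MonoidHom.map_zpowers]
    have : (MonoidHom.fst G C).comp γ = T.subtype := MonoidHom.fst_comp_prod _ _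
    rw [this, Subgroup.range_subtype]
    exact hTy
  have hπ₂ : Function.Surjective π₂ := by
    rw [← MonoidHom.range_eq_top, MonoidHom.range_comp, Subgroup.range_subtype, hP,
      Subgroup.map_sup, MonoidHom.map_range, MonoidHom.map_zpowers]
    have : (MonoidHom.snd G C).comp γ = V.subtype.comp Φ.toMonoidHom :=
      MonoidHom.snd_comp_prod _ _
    rw [this, MonoidHom.range_comp]
    have h2 : Φ.toMonoidHom.range = ⊤ := MonoidHom.range_eq_top.2 Φ.surjective
    rw [h2, ← MonoidHom.range_eq_map, Subgroup.range_subtype]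
    exact hVh
  have hb₁ : Function.Bijective π₁ := hπ₁.bijective_of_nat_card_le hPle
  have hb₂ : Function.Bijective π₂ := hπ₂.bijective_of_nat_card_le (by rw [← hGC]; exact hPle)
  exact ⟨(MulEquiv.ofBijective π₁ hb₁).symm.trans (MulEquiv.ofBijective π₂ hb₂)⟩

/-- the assembly lemma for S1903 -/
theorem assemble {G C : Type*} [Group G] [Group C] [Finite G] [Finite C]
    (T : Subgroup G) [T.Normal] (V : Subgroup C) [V.Normal] (y : G) (h : C)
    (hy : orderOf y = 5) (hh : orderOf h = 5) (hG : Nat.card G = 320) (hC : Nat.card C = 320)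
    (hT : Nat.card T = 64) (hV : Nat.card V = 64)
    (Φ : T ≃* V) (hΦ : ∀ x, Φ (MulAut.conjNormal y x) = MulAut.conjNormal h (Φ x)) :
    Nonempty (G ≃* C) := by
  have hcT : T.IsComplement' (zpowers y) :=
    isComplement'_of_coprime (by rw [hT, Nat.card_zpowers, hy, hG])
      (by rw [hT, Nat.card_zpowers, hy]; norm_num)
  have hcV : V.IsComplement' (zpowers h) :=
    isComplement'_of_coprime (by rw [hV, Nat.card_zpowers, hh, hC])
      (by rw [hV, Nat.card_zpowers, hh]; norm_num)
  exact assemble_gen T V y h 5 (by norm_num) (by rw [← hy]; exact pow_orderOf_eq_one y)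
    (by rw [← hh]; exact pow_orderOf_eq_one h) (by rw [hT, hG]) (by rw [hG, hC])
    hcT.sup_eq_top hcV.sup_eq_top Φ hΦ

end Cfsg.Agent.Lib.Helper5.U34C
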