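import Mathlib
import Cfsg.Agent.Lib.Helper5.U3Even.Sylow

/-!
S1903, part C (author: helper5): the centralizer of the involution `t₀ = Mab 0 1` (the permutation
matrix of `(0 1)`) in `SU₃(4)`: matrices `[[p,r,a],[r,p,a],[c,c,d]]`; the eigenvalue `p + r` on
`e = (1,1,0)` is a character with values in the fifth roots of unity and kernel `U`.
-/

set_option autoImplicit false

namespace Cfsg.Agent.Lib.Helper5.U34C

open Matrix Cfsg Cfsg.Agent.Lib.Helper5 Cfsg.Agent.Lib.Helper5.U3Even
  Cfsg.Agent.Lib.Helper8.SUTransport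

variable {F : Type*} [Field F] [Fintype F]

theorem even4 : Even 4 := ⟨2, rfl⟩

/-- the columns of a unitary matrix are orthonormal -/
theorem col_orth {q : ℕ} (hF : Fintype.card F = q ^ 2) (g : SU 3 F q) (j k : Fin 3) :
    ∑ i, toM g i j * (toM g i k) ^ q = if j = k then 1 else 0 := by
  have hq0 := q_ne_zero hF
  have h := (mem_SU_iff 3 q (g : SpecialLinearGroup (Fin 3) F)).1 g.2 (Pi.single j 1) (Pi.single k 1)
  rw [Matrix.mulVec_single_one, Matrix.mulVec_single_one, Herm.hermForm_single_left] at h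
  unfold hermForm at h
  rw [Pi.single_apply] at h
  have h' : ∑ i, toM g i j * (toM g i k) ^ q = (if j = k then (1 : F) else 0) ^ q := h
  rw [h']
  split_ifs
  · rw [one_pow]
  · rw [zero_pow hq0]

/-- the involution -/
noncomputable def t0 (hF : Fintype.card F = 4 ^ 2) : SU 3 F 4 :=
  mkSU even4 hF 0 1 (by
    have := dbl even4 hF (1 : F)
    simp only [one_pow, ne_eq, OfNat.ofNat_ne_zero, not_false_eq_true, zero_pow, mul_zero]
    exact this)

theorem toM_t0 (hF : Fintype.card F = 4 ^ 2) (i j : Fin 3) :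
    toM (t0 hF) i j = (!![0, 1, 0; 1, 0, 0; 0, 0, 1] : Matrix (Fin 3) (Fin 3) F) i j := by
  have h2 := dbl even4 hF (1 : F)
  show Mab 4 (0 : F) 1 i j = _
  fin_cases i <;> fin_cases j <;> simp [Mab, h2]

/-- the shape of the matrices commuting with `t₀` -/
def Shape (M : Matrix (Fin 3) (Fin 3) F) : Prop :=
  M 1 1 = M 0 0 ∧ M 1 0 = M 0 1 ∧ M 1 2 = M 0 2 ∧ M 2 1 = M 2 0

theorem comm_iff_shape (hF : Fintype.card F = 4 ^ 2) (g : SU 3 F 4) :
    t0 hF * g = g * t0 hF ↔ Shape (toM g) := by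
  constructor
  · intro h
    have hM : toM (t0 hF) * toM g = toM g * toM (t0 hF) := by rw [← toM_mul, ← toM_mul, h]
    have e := fun i j => congrFun (congrFun hM i) j
    simp only [Matrix.mul_apply, Fin.sum_univ_three, toM_t0] at e
    have e00 := e 0 0
    have e01 := e 0 1
    have e02 := e 0 2
    have e20 := e 2 0
    simp at e00 e01 e02 e20
    exact ⟨e01, e00, e02, e20.symm⟩
  · rintro ⟨h1, h2, h3, h4⟩
    apply toM_inj
    rw [toM_mul, toM_mul]
    ext i j
    simp only [Matrix.mul_apply, Fin.sum_univ_three, toM_t0]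
    fin_cases i <;> fin_cases j <;> simp [h1, h2, h3, h4]

/-- the centralizer of `t₀` -/
noncomputable def Cs (hF : Fintype.card F = 4 ^ 2) : Subgroup (SU 3 F 4) :=
  Subgroup.centralizer {t0 hF}

theorem mem_Cs_iff (hF : Fintype.card F = 4 ^ 2) (g : SU 3 F 4) :
    g ∈ Cs hF ↔ Shape (toM g) := by
  unfold Cs
  rw [Subgroup.mem_centralizer_iff]
  simp only [Set.mem_singleton_iff, forall_eq]
  exact comm_iff_shape hF g

/-- the eigenvalue on `(1,1,0)` -/
def lam (g : SU 3 F 4) : F := toM g 0 0 + toM g 0 1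

theorem lam_one : lam (1 : SU 3 F 4) = 1 := by
  unfold lam
  rw [toM_one]
  simp

theorem lam_mul (hF : Fintype.card F = 4 ^ 2) (g g' : SU 3 F 4) (hg' : Shape (toM g')) :
    lam (g * g') = lam g * lam g' := by
  obtain ⟨h1, h2, h3, h4⟩ := hg'
  have hd := two_eq_zero even4 hF
  unfold lam
  rw [toM_mul]
  simp only [Matrix.mul_apply, Fin.sum_univ_three]
  rw [h1, h2, h4]
  linear_combination (toM g 0 2 * toM g' 2 0) * hd

theorem lam_pow (hF : Fintype.card F = 4 ^ 2) (g : SU 3 F 4) (hg : Shape (toM g)) :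
    lam g * lam g ^ 4 = 1 := by
  obtain ⟨h1, h2, h3, h4⟩ := hg
  have hd := two_eq_zero even4 hF
  have c00 := col_orth hF g 0 0
  have c01 := col_orth hF g 0 1
  rw [Fin.sum_univ_three] at c00 c01
  rw [if_pos rfl] at c00
  rw [if_neg (by decide)] at c01
  rw [h1, h2, h4] at c01
  rw [h2] at c00
  unfold lam
  rw [Herm.frob_add hF]
  linear_combination c00 + c01 - (toM g 2 0 * toM g 2 0 ^ 4) * hd

end Cfsg.Agent.Lib.Helper5.U34C
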