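import Mathlib
import Cfsg.Agent.Lib.Helper5.U34C.Basic

/-!
S1903, part C (author: helper5): the kernel of the eigenvalue character on `C_SU(t₀)` is `U`; the
diagonal torus `diag(μ, μ, μ³)`, `μ⁵ = 1`, and its action on `U`.
-/

set_option autoImplicit false

namespace Cfsg.Agent.Lib.Helper5.U34C

open Matrix Cfsg Cfsg.Agent.Lib.Helper5 Cfsg.Agent.Lib.Helper5.U3Even
  Cfsg.Agent.Lib.Helper8.SUTransport

variable {F : Type*} [Field F] [Fintype F]

theorem shape_Mab (hF : Fintype.card F = 4 ^ 2) (a b : F) : Shape (Mab 4 a b) := by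
  refine ⟨?_, ?_, ?_, ?_⟩ <;> simp [Mab]

theorem mem_Cs_of_mem_U (hF : Fintype.card F = 4 ^ 2) {g : SU 3 F 4} (hg : g ∈ U even4 hF) :
    g ∈ Cs hF := by
  obtain ⟨a, b, -, hM⟩ := hg
  rw [mem_Cs_iff, hM]
  exact shape_Mab hF a b

theorem lam_of_mem_U (hF : Fintype.card F = 4 ^ 2) {g : SU 3 F 4} (hg : g ∈ U even4 hF) :
    lam g = 1 := by
  obtain ⟨a, b, -, hM⟩ := hg
  unfold lam
  rw [hM]
  have := dbl even4 hF b
  simp [Mab]
  linear_combination this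

/-- elements of the centralizer with eigenvalue 1 are in `U` -/
theorem mem_U_of_lam_one (hF : Fintype.card F = 4 ^ 2) (g : SU 3 F 4) (hg : Shape (toM g))
    (hl : lam g = 1) : g ∈ U even4 hF := by
  obtain ⟨s1, s2, s3, s4⟩ := hg
  have h2 := two_eq_zero even4 hF
  unfold lam at hl
  have hdet : (toM g).det = 1 := g.1.2
  rw [Matrix.det_fin_three, s1, s2, s3, s4] at hdet
  have hd1 : toM g 2 2 = 1 := by
    linear_combination hdet + (-(toM g 2 2) - toM g 2 2 * (toM g 0 0 - toM g 0 1)) * hl +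
      (toM g 2 2 * toM g 0 1 + toM g 0 2 * toM g 2 0 * (toM g 0 0 - toM g 0 1)) * h2
  have hfr : toM g 0 0 ^ 4 + toM g 0 1 ^ 4 = 1 := by
    rw [← Herm.frob_add hF, hl, one_pow]
  have c20 := col_orth hF g 2 0
  have c00 := col_orth hF g 0 0
  rw [Fin.sum_univ_three] at c20 c00
  rw [if_pos rfl] at c00
  rw [if_neg (by decide)] at c20
  rw [s2, s3] at c20
  rw [s2] at c00
  have hc4 : toM g 2 0 ^ 4 = toM g 0 2 := by
    linear_combination c20 - toM g 0 2 * hfr - toM g 2 0 ^ 4 * hd1 - toM g 0 2 * h2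
  have hc : toM g 2 0 = toM g 0 2 ^ 4 := by
    rw [← hc4, Herm.frob_frob hF]
  have hcond : toM g 0 1 + toM g 0 1 ^ 4 = toM g 0 2 * toM g 0 2 ^ 4 := by
    linear_combination -c00 + toM g 0 0 ^ 4 * hl + (1 - toM g 0 1) * hfr +
      (toM g 0 1 * toM g 0 1 ^ 4) * h2 + toM g 2 0 ^ 4 * hc + toM g 0 2 ^ 4 * hc4
  refine ⟨toM g 0 2, toM g 0 1, hcond, ?_⟩
  have e00 : toM g 0 0 = 1 + toM g 0 1 := by linear_combination hl - toM g 0 1 * h2
  have e11 : toM g 1 1 = 1 + toM g 0 1 := by rw [s1, e00]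
  have e21 : toM g 2 1 = toM g 0 2 ^ 4 := by rw [s4, hc]
  ext i j
  fin_cases i <;> fin_cases j <;> simp [Mab, e00, e11, s2, s3, hc, e21, hd1]

/-! ### the torus -/

/-- the fifth roots of unity -/
def mu5 (F : Type*) [Field F] : Subgroup Fˣ := (powMonoidHom 5 : Fˣ →* Fˣ).ker

theorem mem_mu5 (μ : Fˣ) : μ ∈ mu5 F ↔ μ ^ 5 = 1 := by
  unfold mu5
  rw [MonoidHom.mem_ker]
  rfl

theorem mu5_pow (μ : mu5 F) : ((μ : Fˣ) : F) ^ 5 = 1 := by
  have := (mem_mu5 (μ : Fˣ)).1 μ.2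
  have h := congrArg Units.val this
  simpa using h

/-- `diag(μ, μ, μ³)` -/
def dMat (μ : F) : Matrix (Fin 3) (Fin 3) F := Matrix.diagonal ![μ, μ, μ ^ 3]

theorem dMat_det (μ : F) (h : μ ^ 5 = 1) : (dMat μ).det = 1 := by
  rw [dMat, Matrix.det_diagonal, Fin.prod_univ_three]
  simp only [Matrix.cons_val_zero, Matrix.cons_val_one, Matrix.cons_val_two, Matrix.head_cons,
    Matrix.tail_cons]
  rw [← h]
  ring

theorem dMat_unitary (μ : F) (h : μ ^ 5 = 1) (j k : Fin 3) :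
    ∑ i, dMat μ i j * (dMat μ i k) ^ 4 = if j = k then 1 else 0 := by
  have h1 : μ * μ ^ 4 = 1 := by rw [← h]; ring
  have h3 : μ ^ 3 * (μ ^ 3) ^ 4 = 1 := by
    calc μ ^ 3 * (μ ^ 3) ^ 4 = (μ ^ 5) ^ 3 := by ring
      _ = 1 := by rw [h, one_pow]
  fin_cases j <;> fin_cases k <;> simp [dMat, Fin.sum_univ_three, Matrix.diagonal, h1, h3]

theorem dMat_one : dMat (1 : F) = 1 := by
  unfold dMat
  rw [← Matrix.diagonal_one]
  congr 1
  funext i
  fin_cases i <;> simp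

theorem dMat_mul (μ ν : F) : dMat (μ * ν) = dMat μ * dMat ν := by
  unfold dMat
  rw [Matrix.diagonal_mul_diagonal]
  congr 1
  funext i
  fin_cases i <;> simp [mul_pow]

/-- the torus as a homomorphism into `SU₃(4)` -/
noncomputable def dHom (hF : Fintype.card F = 4 ^ 2) : mu5 F →* SU 3 F 4 where
  toFun μ := ⟨⟨dMat ((μ : Fˣ) : F), dMat_det _ (mu5_pow μ)⟩,
    (mem_SU_iff 3 4 _).2 (herm_preserve (Herm.frob_add hF) _ (dMat_unitary _ (mu5_pow μ)))⟩
  map_one' := by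
    apply toM_inj
    show dMat (((1 : mu5 F) : Fˣ) : F) = toM 1
    rw [toM_one, Subgroup.coe_one, Units.val_one, dMat_one]
  map_mul' μ ν := by
    apply toM_inj
    show dMat (((μ * ν : mu5 F) : Fˣ) : F) = toM (_ * _)
    rw [toM_mul, Subgroup.coe_mul, Units.val_mul, dMat_mul]
    rfl

theorem toM_dHom (hF : Fintype.card F = 4 ^ 2) (μ : mu5 F) :
    toM (dHom hF μ) = dMat ((μ : Fˣ) : F) := rfl

theorem dHom_mem_Cs (hF : Fintype.card F = 4 ^ 2) (μ : mu5 F) : dHom hF μ ∈ Cs hF := by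
  rw [mem_Cs_iff, toM_dHom]
  refine ⟨?_, ?_, ?_, ?_⟩ <;> simp [dMat, Matrix.diagonal]

theorem lam_dHom (hF : Fintype.card F = 4 ^ 2) (μ : mu5 F) : lam (dHom hF μ) = ((μ : Fˣ) : F) := by
  unfold lam
  rw [toM_dHom]
  simp [dMat, Matrix.diagonal]

/-- conjugation by the torus in coordinates -/
theorem conj_dHom (hF : Fintype.card F = 4 ^ 2) (μ : mu5 F) (x : SU 3 F 4) (a b : F)
    (hx : toM x = Mab 4 a b) :
    toM (dHom hF μ * x * (dHom hF μ)⁻¹) 0 2 = ((μ : Fˣ) : F) * (((μ : Fˣ) : F)⁻¹) ^ 3 * a ∧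
      toM (dHom hF μ * x * (dHom hF μ)⁻¹) 0 1 = b := by
  have hμ0 : ((μ : Fˣ) : F) ≠ 0 := Units.ne_zero _
  rw [← map_inv, toM_mul, toM_mul, toM_dHom, toM_dHom, hx, Subgroup.coe_inv,
    Units.val_inv_eq_inv_val]
  unfold dMat
  rw [Matrix.mul_diagonal, Matrix.mul_diagonal, Matrix.diagonal_mul, Matrix.diagonal_mul]
  constructor
  · simp [Mab]
    ring
  · simp [Mab]
    field_simp

end Cfsg.Agent.Lib.Helper5.U34C
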