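import Mathlib
import Cfsg.Agent.Lib.Helper5.U34C.Ker
import Cfsg.Agent.Lib.Lead.K64Def

/-!
S1903, part C (author: helper5): the centralizer `C` of an involution of `PSU₃(4)`: order 320, a
normal subgroup `U` of order 64 and an element `h` of order 5 with `K64 U (conj h)`.
-/

set_option autoImplicit false

namespace Cfsg.Agent.Lib.Helper5.U34C

open Matrix Cfsg Cfsg.Agent.Lib.Helper5 Cfsg.Agent.Lib.Helper5.U3Even
  Cfsg.Agent.Lib.Helper8.SUTransport Cfsg.Agent.Lib.Lead.K64Def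

variable {F : Type*} [Field F] [Fintype F]

/-- `K64` from coordinates -/
theorem k64_of_coords {X : Type*} [Group X] [Finite X] (hF : Fintype.card F = 4 ^ 2)
    (c : Coords F 4 X) (η : X ≃* X) (l : F) (hl5 : l ^ 5 = 1) (hl1 : l ≠ 1)
    (ha : ∀ x, c.a (η x) = l * c.a x) (hb : ∀ x, c.b (η x) = c.b x) : K64 X η := by
  have hainv : ∀ x : X, c.a x⁻¹ + c.a x = 0 := by
    intro x
    rw [← c.ha, inv_mul_cancel, c.a_one]
  refine ⟨?_, ?_, ?_, ?_, ?_, ?_, ?_, ?_, ?_⟩
  · rw [c.card_eq even4 hF]; norm_num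
  · exact c.card_center even4 hF
  · intro x hx
    rw [c.mem_center_iff even4 hF] at hx
    rw [pow_two]
    exact (c.sq_eq_one_iff even4 hF x).2 hx
  · intro x
    rw [pow_two, c.mem_center_iff even4 hF, c.ha]
    exact dbl even4 hF _
  · intro x y
    rw [c.mem_center_iff even4 hF, c.ha, c.ha, c.ha]
    linear_combination hainv x + hainv y
  · intro x hx
    rw [pow_two] at hx
    rw [c.mem_center_iff even4 hF]
    exact (c.sq_eq_one_iff even4 hF x).1 hx
  · intro x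
    apply c.hinj
    · rw [ha, ha, ha, ha, ha]
      calc l * (l * (l * (l * (l * c.a x)))) = l ^ 5 * c.a x := by ring
        _ = c.a x := by rw [hl5, one_mul]
    · rw [hb, hb, hb, hb, hb]
  · intro x hx
    rw [c.mem_center_iff even4 hF] at hx
    apply c.hinj
    · rw [ha, hx, mul_zero]
    · rw [hb]
  · intro x hx
    rw [c.mem_center_iff even4 hF] at hx ⊢
    rw [c.ha, ha] at hx
    have h1 := hainv x
    have h2 : (l - 1) * c.a x = 0 := by linear_combination hx - h1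
    rcases mul_eq_zero.1 h2 with e | e
    · exact absurd (sub_eq_zero.1 e) hl1
    · exact e

/-- the eigenvalue character -/
noncomputable def chi0 (hF : Fintype.card F = 4 ^ 2) : ↥(Cs hF) →* F where
  toFun g := lam g.1
  map_one' := lam_one
  map_mul' g g' := lam_mul hF g.1 g'.1 ((mem_Cs_iff hF _).1 g'.2)

noncomputable def chi (hF : Fintype.card F = 4 ^ 2) : ↥(Cs hF) →* Fˣ := (chi0 hF).toHomUnits

theorem chi_val (hF : Fintype.card F = 4 ^ 2) (g : ↥(Cs hF)) : ((chi hF g : Fˣ) : F) = lam g.1 :=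
  rfl

theorem mem_ker_chi (hF : Fintype.card F = 4 ^ 2) (g : ↥(Cs hF)) :
    g ∈ (chi hF).ker ↔ lam g.1 = 1 := by
  rw [MonoidHom.mem_ker, Units.ext_iff, chi_val, Units.val_one]

/-- the kernel is `U` -/
noncomputable def kerEquiv (hF : Fintype.card F = 4 ^ 2) : ↥(chi hF).ker ≃* ↥(U even4 hF) where
  toFun x := ⟨x.1.1, mem_U_of_lam_one hF x.1.1 ((mem_Cs_iff hF _).1 x.1.2)
    ((mem_ker_chi hF x.1).1 x.2)⟩
  invFun u := ⟨⟨u.1, mem_Cs_of_mem_U hF u.2⟩, (mem_ker_chi hF _).2 (lam_of_mem_U hF u.2)⟩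
  left_inv x := rfl
  right_inv u := rfl
  map_mul' x y := rfl

theorem card_ker (hF : Fintype.card F = 4 ^ 2) : Nat.card ↥(chi hF).ker = 64 := by
  rw [Nat.card_congr (kerEquiv hF).toEquiv, card_U even4 hF]
  norm_num

theorem range_chi (hF : Fintype.card F = 4 ^ 2) : (chi hF).range = mu5 F := by
  ext μ
  constructor
  · rintro ⟨g, rfl⟩
    rw [mem_mu5]
    apply Units.ext
    rw [Units.val_pow_eq_pow_val, chi_val, Units.val_one]
    have := lam_pow hF g.1 ((mem_Cs_iff hF _).1 g.2)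
    rw [← this]
    ring
  · intro hμ
    refine ⟨⟨dHom hF ⟨μ, hμ⟩, dHom_mem_Cs hF _⟩, ?_⟩
    apply Units.ext
    rw [chi_val]
    exact lam_dHom hF ⟨μ, hμ⟩

theorem card_mu5 (hF : Fintype.card F = 4 ^ 2) : Nat.card (mu5 F) = 5 := by
  classical
  unfold mu5
  rw [IsCyclic.card_powMonoidHom_ker, Nat.card_eq_fintype_card, Fintype.card_units, hF]
  norm_num

theorem finite_SU : Finite (SU 3 F 4) := inferInstance

theorem card_Cs (hF : Fintype.card F = 4 ^ 2) : Nat.card ↥(Cs hF) = 320 := by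
  rw [Subgroup.card_eq_card_quotient_mul_card_subgroup (chi hF).ker, card_ker,
    Nat.card_congr (QuotientGroup.quotientKerEquivRange (chi hF)).toEquiv, range_chi, card_mu5 hF]

theorem dHom_injective (hF : Fintype.card F = 4 ^ 2) : Function.Injective (dHom hF) := by
  intro μ ν h
  have := congrArg lam h
  rw [lam_dHom, lam_dHom] at this
  exact Subtype.ext (Units.ext this)

/-- the good data on `C_SU(t₀)` -/
theorem exists_good (hF : Fintype.card F = 4 ^ 2) :
    ∃ (V : Subgroup ↥(Cs hF)) (_ : V.Normal) (h : ↥(Cs hF)), orderOf h = 5 ∧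
      Nat.card ↥(Cs hF) = 320 ∧ Nat.card V = 64 ∧ K64 ↥V (MulAut.conjNormal h) := by
  haveI : Fact (Nat.Prime 5) := ⟨by norm_num⟩
  haveI : Finite (mu5 F) := Nat.finite_of_card_ne_zero (by rw [card_mu5 hF]; norm_num)
  obtain ⟨μ, hμ⟩ := exists_prime_orderOf_dvd_card' (G := mu5 F) 5 (by rw [card_mu5 hF])
  have hμ5 := mu5_pow μ
  have hμ1 : ((μ : Fˣ) : F) ≠ 1 := by
    intro e
    have : μ = 1 := Subtype.ext (Units.ext e)
    rw [this, orderOf_one] at hμ
    omega
  have hμ0 : ((μ : Fˣ) : F) ≠ 0 := Units.ne_zero _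
  refine ⟨(chi hF).ker, inferInstance, ⟨dHom hF μ, dHom_mem_Cs hF μ⟩, ?_, card_Cs hF, card_ker hF, ?_⟩
  · rw [← hμ, ← orderOf_injective (dHom hF) (dHom_injective hF) μ]
    exact Subgroup.orderOf_mk _ _
  · haveI : Finite ↥(chi hF).ker := Nat.finite_of_card_ne_zero (by rw [card_ker hF]; norm_num)
    set m : F := ((μ : Fˣ) : F) with hm
    have hl5 : (m * m⁻¹ ^ 3) ^ 5 = 1 := by
      rw [mul_pow, ← pow_mul, inv_pow, hμ5]
      have : m ^ (3 * 5) = (m ^ 5) ^ 3 := by ring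
      rw [this, hμ5]
      simp
    have hl1 : m * m⁻¹ ^ 3 ≠ 1 := by
      intro e
      apply hμ1
      have e1 : m = m ^ 3 := by
        have h1 : m * m⁻¹ ^ 3 * m ^ 3 = m ^ 3 := by rw [e, one_mul]
        rw [mul_assoc, ← mul_pow, inv_mul_cancel₀ hμ0, one_pow, mul_one] at h1
        exact h1
      calc m = m ^ 3 := e1
        _ = m * m * m := by ring
        _ = m ^ 3 * m * m := by rw [← e1]
        _ = m ^ 5 := by ring
        _ = 1 := hμ5
    apply k64_of_coords hF (coordsOfEquiv even4 hF (kerEquiv hF)) _ (m * m⁻¹ ^ 3) hl5 hl1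
    · intro x
      obtain ⟨a, b, -, hM⟩ := (kerEquiv hF x).2
      have hM' : toM x.1.1 = Mab 4 a b := hM
      have h1 := (conj_dHom hF μ x.1.1 a b hM').1
      show toM (dHom hF μ * x.1.1 * (dHom hF μ)⁻¹) 0 2 = m * m⁻¹ ^ 3 * toM x.1.1 0 2
      rw [h1, hM', Mab_02]
    · intro x
      obtain ⟨a, b, -, hM⟩ := (kerEquiv hF x).2
      have hM' : toM x.1.1 = Mab 4 a b := hM
      have h1 := (conj_dHom hF μ x.1.1 a b hM').2
      show toM (dHom hF μ * x.1.1 * (dHom hF μ)⁻¹) 0 1 = toM x.1.1 0 1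
      rw [h1, hM', Mab_01]

end Cfsg.Agent.Lib.Helper5.U34C
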