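import Mathlib
import Cfsg.Agent.Lib.Helper5.U34C.Main

/-!
S1903, part C (author: helper5): transport from `SU₃(4)` (trivial centre) to `PSU₃(4)` and the
final statement `partC`.
-/

set_option autoImplicit false

namespace Cfsg.Agent.Lib.Helper5.U34C

open Matrix Cfsg Cfsg.Agent.Lib.Helper5 Cfsg.Agent.Lib.Helper5.U3Even
  Cfsg.Agent.Lib.Helper8.SUTransport Cfsg.Agent.Lib.Lead.K64Def

/-- an isomorphism carries centralizers to centralizers -/
def centralizerEquiv {A B : Type*} [Group A] [Group B] (E : A ≃* B) (a : A) :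
    ↥(Subgroup.centralizer ({a} : Set A)) ≃* ↥(Subgroup.centralizer ({E a} : Set B)) where
  toFun x := ⟨E x.1, by
    rw [Subgroup.mem_centralizer_iff]
    intro y hy
    rw [Set.mem_singleton_iff] at hy
    subst hy
    rw [← map_mul, ← map_mul, Subgroup.mem_centralizer_iff.1 x.2 a rfl]⟩
  invFun y := ⟨E.symm y.1, by
    rw [Subgroup.mem_centralizer_iff]
    intro z hz
    rw [Set.mem_singleton_iff] at hz
    subst hz
    apply E.injective
    rw [map_mul, map_mul, MulEquiv.apply_symm_apply]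
    exact Subgroup.mem_centralizer_iff.1 y.2 (E z) rfl⟩
  left_inv x := Subtype.ext (E.symm_apply_apply x.1)
  right_inv y := Subtype.ext (E.apply_symm_apply y.1)
  map_mul' x y := Subtype.ext (map_mul E x.1 y.1)

variable {F : Type*} [Field F] [Fintype F]

theorem center_eq_bot (hF : Fintype.card F = 4 ^ 2) : Subgroup.center (SU 3 F 4) = ⊥ := by
  have h := Cfsg.Agent.S0279.card_center hF 3 (by norm_num)
  have h1 : Nat.gcd 3 (4 + 1) = 1 := by norm_num
  rw [h1] at h
  exact Subgroup.card_eq_one.1 h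

/-- `SU₃(4) ≃* PSU₃(4)` -/
noncomputable def suEquivPSU (hF : Fintype.card F = 4 ^ 2) : SU 3 F 4 ≃* PSU 3 F 4 :=
  MulEquiv.ofBijective (QuotientGroup.mk' (Subgroup.center (SU 3 F 4)))
    ⟨by
      rw [injective_iff_map_eq_one]
      intro x hx
      have : x ∈ Subgroup.center (SU 3 F 4) := (QuotientGroup.eq_one_iff x).1 hx
      rw [center_eq_bot hF, Subgroup.mem_bot] at this
      exact this, QuotientGroup.mk'_surjective _⟩

theorem orderOf_t0 (hF : Fintype.card F = 4 ^ 2) : orderOf (t0 hF) = 2 := by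
  haveI : Fact (Nat.Prime 2) := ⟨Nat.prime_two⟩
  apply orderOf_eq_prime
  · apply toM_inj
    rw [pow_two, toM_mul, toM_one]
    ext i j
    simp only [Matrix.mul_apply, Fin.sum_univ_three, toM_t0]
    fin_cases i <;> fin_cases j <;> simp
  · intro e
    have h1 := congrArg (fun g => toM g 0 0) e
    simp only [toM_t0, toM_one] at h1
    simp at h1

/-- the concrete side of S1903 -/
theorem partC (hF : Fintype.card F = 16) :
    ∃ t : PSU 3 F 4, orderOf t = 2 ∧ ∃ C : Subgroup (SU 3 F 4),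
      Nonempty (↥C ≃* Subgroup.centralizer ({t} : Set (PSU 3 F 4))) ∧
      ∃ (V : Subgroup ↥C) (_ : V.Normal) (h : ↥C), orderOf h = 5 ∧ Nat.card ↥C = 320 ∧
        Nat.card V = 64 ∧ K64 ↥V (MulAut.conjNormal h) := by
  have hF' : Fintype.card F = 4 ^ 2 := by rw [hF]; norm_num
  refine ⟨suEquivPSU hF' (t0 hF'), ?_, Cs hF', ⟨centralizerEquiv (suEquivPSU hF') (t0 hF')⟩,
    exists_good hF'⟩
  rw [MulEquiv.orderOf_eq, orderOf_t0]

end Cfsg.Agent.Lib.Helper5.U34C
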